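import Groth.Prelude.Def_Pi1
import Groth.Agent.S4647
import Groth.Agent.Triage.ZMTBir
import Groth.Agent.AlgSpLib.EtLocalInst
import Groth.Agent.ExistEasy.ChowNR.Basic
import Mathlib

/-! # Extension of rational sections of separated unramified formally proper morphisms over normal schemes -/

noncomputable section

universe u

open CategoryTheory Limits AlgebraicGeometry TopologicalSpace

namespace Groth.Agent.RatSecExt

set_option backward.isDefEq.respectTransparency false
set_option backward.isDefEq.respectTransparency.types false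

theorem isIntegral_image {X Y : Scheme.{u}} (f : X ⟶ Y) [QuasiCompact f] [IsIntegral X] :
    IsIntegral f.image := by
  have hred : IsReduced f.image := by
    refine ⟨fun O => ?_⟩
    exact isReduced_of_injective (f.toImage.app O).hom (ExistEasy.ChowNR.toImage_app_injective' f O)
  have hirr : IrreducibleSpace f.image := by
    have h1 : IsIrreducible (Set.range f.toImage.base) := by
      rw [← Set.image_univ]
      exact (IrreducibleSpace.isIrreducible_univ X).image _ f.toImage.continuous.continuousOn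
    have h2 := h1.closure
    rw [f.toImage.denseRange.closure_range] at h2
    exact (irreducibleSpace_def _).2 h2
  exact isIntegral_of_irreducibleSpace_of_isReduced _

variable {Z S : Scheme.{u}} (f : Z ⟶ S)

/-- Extension near a point. -/
theorem exists_local [IsLocallyNoetherian S] (hS : Pi1.IsNormalScheme S) [IsSeparated f]
    [LocallyQuasiFinite f] [LocallyOfFiniteType f] (hfp : ValuativeCriterion.Existence f)
    (U : S.Opens) (hU : Dense (U : Set S)) (v : ↑U ⟶ Z) (hv : v ≫ f = U.ι) (s : S) :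
    ∃ (W : S.Opens), s ∈ W ∧ ∃ w : ↑W ⟶ Z, w ≫ f = W.ι ∧
      ∀ (T : Scheme.{u}) (t : T ⟶ W) (t' : T ⟶ U), t ≫ W.ι = t' ≫ U.ι → t ≫ w = t' ≫ v := by
  -- an integral affine neighbourhood
  obtain ⟨S₁, hsS₁, hS₁⟩ := S4647.result (𝟙 S) (fun x => (hS x).1) (fun y => by
    obtain ⟨_, ⟨A, hA, rfl⟩, hyA, -⟩ := S.isBasis_affineOpens.exists_subset_of_mem_open
      (Set.mem_univ y) isOpen_univ
    haveI := IsLocallyNoetherian.component_noetherian ⟨A, hA⟩
    exact ⟨A, hyA, noetherianSpace_of_isAffineOpen A hA⟩) s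
  obtain ⟨_, ⟨(S₀ : S.Opens), hS₀, rfl⟩, hsS₀, hS₀le⟩ := S.isBasis_affineOpens.exists_subset_of_mem_open
    hsS₁ S₁.isOpen
  haveI : IsAffine S₀ := hS₀
  haveI : Nonempty S₀ := ⟨⟨s, hsS₀⟩⟩
  haveI : IsIntegral S₀ := isIntegral_of_isOpenImmersion (S.homOfLE hS₀le)
  -- the restricted rational section
  let U₀ : S.Opens := U ⊓ S₀
  obtain ⟨p, hpS₀, hpU⟩ := hU.inter_open_nonempty _ S₀.isOpen ⟨s, hsS₀⟩
  haveI : Nonempty U₀ := ⟨⟨p, hpU, hpS₀⟩⟩
  haveI : IsIntegral U₀ := isIntegral_of_isOpenImmersion (S.homOfLE (inf_le_right : U₀ ≤ S₀))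
  let v₀ : U₀.toScheme ⟶ Z := S.homOfLE (inf_le_left : U₀ ≤ U) ≫ v
  have hv₀ : v₀ ≫ f = U₀.ι := by simp [v₀, hv]
  haveI : QuasiCompact v₀ := by
    have : QuasiCompact (v₀ ≫ f) := by rw [hv₀]; infer_instance
    exact QuasiCompact.of_comp v₀ f
  haveI hZint : IsIntegral v₀.image := isIntegral_image v₀
  let f' : v₀.image ⟶ S := v₀.imageι ≫ f
  have hf' : v₀.toImage ≫ f' = U₀.ι := by
    rw [Scheme.Hom.toImage_imageι_assoc, hv₀]
  -- over `U₀` the map `f'` is an isomorphism
  let P : v₀.image.Opens := f' ⁻¹ᵁ U₀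
  have hrange : Set.range v₀.toImage ⊆ Set.range P.ι := by
    rintro _ ⟨x, rfl⟩
    rw [P.range_ι]
    show f' (v₀.toImage x) ∈ U₀
    rw [← Scheme.Hom.comp_apply, hf']
    exact x.2
  let σ : U₀.toScheme ⟶ P.toScheme := IsOpenImmersion.lift P.ι v₀.toImage hrange
  have hσ : σ ≫ P.ι = v₀.toImage := IsOpenImmersion.lift_fac _ _ _
  have hσf : σ ≫ f' ∣_ U₀ = 𝟙 _ := by
    rw [← cancel_mono U₀.ι, Category.assoc, morphismRestrict_ι, ← Category.assoc, hσ, hf',
      Category.id_comp]
  haveI : IsClosedImmersion σ := by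
    have : IsClosedImmersion (σ ≫ f' ∣_ U₀) := by rw [hσf]; infer_instance
    exact IsClosedImmersion.of_comp σ (f' ∣_ U₀)
  haveI : IsDominant σ := by
    have : IsDominant (σ ≫ P.ι) := by rw [hσ]; infer_instance
    exact IsDominant.of_comp_of_isOpenImmersion σ P.ι
  haveI : Surjective σ := ⟨Set.range_eq_univ.mp (by
    rw [← σ.isClosedEmbedding.isClosed_range.closure_eq,
      σ.denseRange.closure_range])⟩
  haveI : IsReduced P := isReduced_of_isOpenImmersion P.ι
  haveI : IsIso σ := isIso_of_isClosedImmersion_of_surjective σ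
  haveI hiso : IsIso (f' ∣_ U₀) := by
    have : f' ∣_ U₀ = inv σ := by rw [← cancel_epi σ, hσf, IsIso.hom_inv_id]
    rw [this]; infer_instance
  -- generic points
  haveI : IsOpenImmersion v₀.toImage := hσ ▸ inferInstance
  have hgenZ : v₀.toImage (genericPoint U₀) = genericPoint v₀.image :=
    genericPoint_eq_of_isOpenImmersion _
  have hgenS₀ : (S.homOfLE (inf_le_right : U₀ ≤ S₀)) (genericPoint U₀) = genericPoint S₀ :=
    genericPoint_eq_of_isOpenImmersion _
  -- a point of the image over `s`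
  have hspec : S₀.ι (genericPoint S₀) ⤳ s :=
    (genericPoint_specializes (α := ↥S₀.toScheme) ⟨s, hsS₀⟩).map S₀.ι.continuous
  have hf'gen : f' (genericPoint v₀.image) = S₀.ι (genericPoint S₀) := by
    rw [← hgenZ, ← Scheme.Hom.comp_apply, hf', ← hgenS₀, ← Scheme.Hom.comp_apply, Scheme.homOfLE_ι]
  have hs' : f.base (v₀.imageι.base (genericPoint v₀.image)) ⤳ s := by
    show f' (genericPoint v₀.image) ⤳ s
    rw [hf'gen]; exact hspec
  obtain ⟨z₁, hz₁, hz₁s⟩ := ValuativeCriterion.Existence.specializingMap f hfp hs'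
  obtain ⟨z, rfl⟩ : z₁ ∈ Set.range v₀.imageι :=
    closure_minimal (Set.singleton_subset_iff.2 (Set.mem_range_self (genericPoint v₀.image)))
      v₀.imageι.isClosedEmbedding.isClosed_range hz₁.mem_closure
  -- an affine neighbourhood
  obtain ⟨_, ⟨(V : v₀.image.Opens), hV, rfl⟩, hzV, hVle⟩ := v₀.image.isBasis_affineOpens.exists_subset_of_mem_open
    (show z ∈ f' ⁻¹ᵁ S₀ by
      show f (v₀.imageι z) ∈ S₀
      rw [hz₁s]; exact hsS₀) (f' ⁻¹ᵁ S₀).isOpen
  haveI : IsAffine V := hV
  haveI : Nonempty V := ⟨⟨z, hzV⟩⟩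
  let g : V.toScheme ⟶ S₀.toScheme := f'.resLE S₀ V hVle
  haveI : IsAffineHom g := isAffineHom_of_isAffine _
  haveI : LocallyQuasiFinite g := by
    have : LocallyQuasiFinite (g ≫ S₀.ι) := by
      rw [Scheme.Hom.resLE_comp_ι]
      show LocallyQuasiFinite (V.ι ≫ v₀.imageι ≫ f)
      infer_instance
    exact LocallyQuasiFinite.of_comp g S₀.ι
  haveI : LocallyOfFiniteType g := by
    have : LocallyOfFiniteType (g ≫ S₀.ι) := by
      rw [Scheme.Hom.resLE_comp_ι]
      infer_instance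
    exact locallyOfFiniteType_of_comp g S₀.ι
  have hVgen : V.ι (genericPoint V) = genericPoint v₀.image := genericPoint_eq_of_isOpenImmersion _
  have hgcomp : g ≫ S₀.ι = V.ι ≫ f' := Scheme.Hom.resLE_comp_ι _ _
  have hggen : g (genericPoint V) = genericPoint S₀ := by
    apply S₀.ι.isOpenEmbedding.injective
    rw [← Scheme.Hom.comp_apply, hgcomp, Scheme.Hom.comp_apply, hVgen, hf'gen]
  have hbir : IsIso (g.stalkMap (genericPoint V)) := by
    have hmem : V.ι (genericPoint V) ∈ f' ⁻¹ᵁ U₀ := by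
      rw [hVgen, ← hgenZ]
      show f' (v₀.toImage (genericPoint U₀)) ∈ U₀
      rw [← Scheme.Hom.comp_apply, hf']
      exact (genericPoint U₀).2
    haveI : IsIso (f'.stalkMap (V.ι (genericPoint V))) :=
      (MorphismProperty.isomorphisms _).arrow_mk_iso_iff
        (morphismRestrictStalkMap f' U₀ ⟨_, hmem⟩) |>.1
        (show IsIso ((f' ∣_ U₀).stalkMap _) from inferInstance)
    have h : IsIso ((g ≫ S₀.ι).stalkMap (genericPoint V)) := by
      rw [Scheme.Hom.stalkMap_congr_hom _ _ hgcomp, Scheme.Hom.stalkMap_comp]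
      infer_instance
    rw [Scheme.Hom.stalkMap_comp] at h
    exact @IsIso.of_isIso_comp_left _ _ _ _ _ _ _ inferInstance h
  have hN : ∀ y : S₀, IsIntegrallyClosed ((S₀ : Scheme.{u}).presheaf.stalk y) := fun y =>
    haveI := (hS (S₀.ι y)).2
    IsIntegrallyClosed.of_equiv (asIso (S₀.ι.stalkMap y)).commRingCatIsoToRingEquiv
  haveI : IsOpenImmersion g := Triage.ZMTBir.isOpenImmersion_of_birational hN g hggen hbir
  let h : V.toScheme ⟶ S := g ≫ S₀.ι
  refine ⟨h.opensRange, ?_, h.isoOpensRange.inv ≫ V.ι ≫ v₀.imageι, ?_, ?_⟩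
  · refine ⟨⟨z, hzV⟩, ?_⟩
    show h ⟨z, hzV⟩ = s
    rw [show h = V.ι ≫ f' from hgcomp]
    exact hz₁s
  · rw [Category.assoc, Category.assoc, show V.ι ≫ v₀.imageι ≫ f = h from hgcomp.symm,
      Scheme.Hom.isoOpensRange_inv_comp]
  · intro T t t' htt'
    have hW : h.opensRange ≤ S₀ := by
      rintro _ ⟨x, rfl⟩
      exact (g x).2
    have hrange' : Set.range t' ⊆ Set.range (S.homOfLE (inf_le_left : U₀ ≤ U)) := by
      rintro _ ⟨x, rfl⟩
      refine ⟨⟨(t' x).1, (t' x).2, ?_⟩, ?_⟩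
      · have : U.ι (t' x) = h.opensRange.ι (t x) := by
          rw [← Scheme.Hom.comp_apply, ← Scheme.Hom.comp_apply, htt']
        rw [show (t' x).1 = U.ι (t' x) from rfl, this]
        exact hW (t x).2
      · apply U.ι.isOpenEmbedding.injective
        rw [← Scheme.Hom.comp_apply, Scheme.homOfLE_ι]
        rfl
    let t₀ : T ⟶ U₀ := IsOpenImmersion.lift _ t' hrange'
    have ht₀ : t₀ ≫ S.homOfLE (inf_le_left : U₀ ≤ U) = t' := IsOpenImmersion.lift_fac _ _ _
    let a : T ⟶ v₀.image := t ≫ h.isoOpensRange.inv ≫ V.ι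
    let b : T ⟶ v₀.image := t₀ ≫ v₀.toImage
    have hab : a ≫ f' = b ≫ f' := by
      simp only [a, b, Category.assoc, hf']
      rw [show V.ι ≫ f' = h from hgcomp.symm, Scheme.Hom.isoOpensRange_inv_comp, htt', ← ht₀,
        Category.assoc, Scheme.homOfLE_ι]
    have hra : Set.range a ⊆ Set.range P.ι := by
      rintro _ ⟨x, rfl⟩
      rw [P.range_ι]
      show f' (a x) ∈ U₀
      rw [← Scheme.Hom.comp_apply, hab]
      simp only [b, Category.assoc, hf', Scheme.Hom.comp_apply]
      exact (t₀ x).2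
    have hba : a = b := by
      have hb : (t₀ ≫ σ) ≫ P.ι = b := by rw [Category.assoc, hσ]
      rw [← IsOpenImmersion.lift_fac P.ι a hra, ← hb]
      congr 1
      rw [← cancel_mono (f' ∣_ U₀ ≫ U₀.ι), morphismRestrict_ι]
      show IsOpenImmersion.lift P.ι a hra ≫ P.ι ≫ f' = (t₀ ≫ σ) ≫ P.ι ≫ f'
      rw [IsOpenImmersion.lift_fac_assoc, ← Category.assoc (t₀ ≫ σ), hb]
      exact hab
    calc t ≫ h.isoOpensRange.inv ≫ V.ι ≫ v₀.imageι = a ≫ v₀.imageι := by simp [a]
      _ = b ≫ v₀.imageι := by rw [hba]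
      _ = t' ≫ v := by
        rw [← ht₀]
        simp [b, v₀]

theorem exists_section [IsLocallyNoetherian S] (hS : Pi1.IsNormalScheme S) [IsSeparated f]
    [LocallyQuasiFinite f] [LocallyOfFiniteType f] (hfp : ValuativeCriterion.Existence f)
    (U : S.Opens) (hU : Dense (U : Set S)) (v : ↑U ⟶ Z) (hv : v ≫ f = U.ι) :
    ∃ w : S ⟶ Z, w ≫ f = 𝟙 S ∧ U.ι ≫ w = v := by
  choose W hsW w hw hagree using exists_local f hS hfp U hU v hv
  haveI : ∀ x : S, _root_.IsReduced (S.presheaf.stalk x) := fun x => by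
    haveI := (hS x).1; infer_instance
  haveI : IsReduced S := isReduced_of_isReduced_stalk _
  let 𝒰 := S.openCoverOfIsOpenCover W (TopologicalSpace.IsOpenCover.mk (by
    ext x; simp only [Opens.coe_iSup, Set.mem_iUnion, Opens.coe_top, Set.mem_univ, iff_true]
    exact ⟨x, hsW x⟩))
  have compat : ∀ i j : S, pullback.fst (W i).ι (W j).ι ≫ w i = pullback.snd (W i).ι (W j).ι ≫ w j := by
    intro i j
    let q := pullback.fst (W i).ι (W j).ι ≫ (W i).ι
    haveI : IsReduced (pullback (W i).ι (W j).ι) := isReduced_of_isOpenImmersion q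
    let O := q ⁻¹ᵁ U
    haveI : IsDominant O.ι := ⟨by
      rw [DenseRange, O.range_ι]
      exact hU.preimage q.isOpenEmbedding.isOpenMap⟩
    have hr : Set.range (O.ι ≫ q) ⊆ Set.range U.ι := by
      rintro _ ⟨x, rfl⟩
      rw [U.range_ι]
      exact x.2
    refine ext_of_isDominant_of_isSeparated f ?_ O.ι ?_
    · simp only [Category.assoc, hw]
      exact pullback.condition
    · have hlift := IsOpenImmersion.lift_fac U.ι (O.ι ≫ q) hr
      rw [← Category.assoc, ← Category.assoc,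
        hagree i _ (O.ι ≫ pullback.fst _ _) (IsOpenImmersion.lift U.ι (O.ι ≫ q) hr)
          (by rw [hlift, Category.assoc]),
        hagree j _ (O.ι ≫ pullback.snd _ _) (IsOpenImmersion.lift U.ι (O.ι ≫ q) hr)
          (by rw [hlift, Category.assoc]; simp only [q, pullback.condition])]
  let W' : S ⟶ Z := 𝒰.glueMorphisms w compat
  have hW' : ∀ i, (W i).ι ≫ W' = w i := fun i => 𝒰.ι_glueMorphisms w compat i
  refine ⟨W', 𝒰.hom_ext _ _ fun i => ?_, ?_⟩
  · show (W i).ι ≫ W' ≫ f = (W i).ι ≫ 𝟙 S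
    rw [reassoc_of% (hW' i), hw i, Category.comp_id]
  · refine Scheme.Cover.hom_ext (𝒰.pullback₁ U.ι) _ _ fun i => ?_
    show pullback.fst U.ι (W i).ι ≫ U.ι ≫ W' = pullback.fst U.ι (W i).ι ≫ v
    rw [← Category.assoc, pullback.condition, Category.assoc, hW' i]
    exact hagree i _ (pullback.snd _ _) (pullback.fst _ _) pullback.condition.symm

end Groth.Agent.RatSecExt
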